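import Cfsg.Agent.H696.PSq.Defs
import Cfsg.Agent.H680.Red5009

/-!
# S4844, PS-14: lifting the exceptional structure (helper904)

`G / V` exceptional (`A₇ × L`), `V` a 2-group or abelian of odd order, no degree of `G` divisible by 4:
then `G` is exceptional. Inputs PS-11, PS-12, PS-13 as hypotheses.
-/

set_option autoImplicit false

namespace Cfsg.Agent.H904.PSq

open scoped commutatorElement
open Cfsg Subgroup Cfsg.Agent.H33 Cfsg.Agent.H696.PSq Cfsg.Agent.H680.Red5009

universe u v

/-- PS-11 -/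
def SevenCentral : Prop := ∀ (K : Type u) [Group K] [Finite K], commutator K = ⊤ → ∀ (V : Subgroup K),
  V ≤ center K → V ≠ ⊥ → ∀ [V.Normal], Nonempty (K ⧸ V ≃* alternatingGroup (Fin 7)) → H33.IM 4 K

/-- PS-12 -/
def SevenOdd : Prop := ∀ (K : Type u) [Group K] [Finite K], commutator K = ⊤ → ∀ (V : Subgroup K) [V.Normal],
  IsMulCommutative V → Odd (Nat.card V) → (∀ N : Subgroup K, N.Normal → N ≤ V → N = ⊥ ∨ N = V) →
  ¬ V ≤ center K → Nonempty (K ⧸ V ≃* alternatingGroup (Fin 7)) → H33.IM 4 K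

/-- PS-13 -/
def SevenTwo : Prop := ∀ (K : Type u) [Group K] [Finite K], commutator K = ⊤ → ∀ (V : Subgroup K) [V.Normal],
  IsPGroup 2 V → (∀ N : Subgroup K, N.Normal → N ≤ V → N = ⊥ ∨ N = V) →
  ¬ V ≤ center K → Nonempty (K ⧸ V ≃* alternatingGroup (Fin 7)) → H33.IM 4 K

theorem simple_A7 : IsSimpleGroup (alternatingGroup (Fin 7)) := alternatingGroup.isSimpleGroup (by simp)

/-! ### Perfect groups -/

theorem commutator_map {G : Type u} {H : Type v} [Group G] [Group H] (f : G →* H) (hf : Function.Surjective f)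
    (h : commutator G = ⊤) : commutator H = ⊤ := by
  rw [_root_.commutator_def] at h ⊢
  have h1 : (⁅(⊤ : Subgroup G), ⊤⁆ : Subgroup G).map f = ⁅(⊤ : Subgroup G).map f, (⊤ : Subgroup G).map f⁆ :=
    Subgroup.map_commutator _ _ _
  rw [h, Subgroup.map_top_of_surjective f hf] at h1
  exact h1.symm

/-- The perfect step: extensions of `A₇` by `V` without degrees divisible by four split. -/
theorem inf_eq_bot (hC : SevenCentral.{u}) (hO : SevenOdd.{u}) (hT : SevenTwo.{u}) {K : Type u} [Group K]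
    [Finite K] (hK : commutator K = ⊤) (hyp : ¬ IM 4 K) {V : Subgroup K} [V.Normal]
    (hV : IsPGroup 2 V ∨ (Odd (Nat.card V) ∧ IsMulCommutative V))
    (e : Nonempty (K ⧸ V ≃* alternatingGroup (Fin 7))) : V = ⊥ := by
  by_contra hne
  -- a maximal normal subgroup of `K` properly contained in `V`
  obtain ⟨M, ⟨hM, hMV, hMne⟩, hmax⟩ := (Set.toFinite {M : Subgroup K | M.Normal ∧ M ≤ V ∧ M ≠ V}).exists_maximal
    ⟨⊥, inferInstance, bot_le, fun h => hne h.symm⟩
  have hMlt : M < V := lt_of_le_of_ne hMV hMne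
  let f := QuotientGroup.mk' M
  have hf : Function.Surjective f := QuotientGroup.mk'_surjective M
  let V1 : Subgroup (K ⧸ M) := V.map f
  have hV1n : V1.Normal := Subgroup.Normal.map inferInstance f hf
  have hcomap : V1.comap f = V := by
    rw [Subgroup.comap_map_eq, QuotientGroup.ker_mk', sup_eq_left.2 hMV]
  have hV1ne : V1 ≠ ⊥ := by
    intro h1
    apply hMne
    rw [← hcomap, h1, MonoidHom.comap_bot, QuotientGroup.ker_mk']
  have hmin : ∀ N : Subgroup (K ⧸ M), N.Normal → N ≤ V1 → N = ⊥ ∨ N = V1 := by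
    intro N hN hNV
    by_cases h1 : N.comap f = V
    · right
      rw [← Subgroup.map_comap_eq_self_of_surjective hf N, h1]
    · left
      have h2 : N.comap f ≤ V := by
        rw [← hcomap]
        exact Subgroup.comap_mono hNV
      have h3 : M ≤ N.comap f := by
        intro x hx
        rw [Subgroup.mem_comap]
        have : f x = 1 := (QuotientGroup.eq_one_iff x).2 hx
        rw [this]
        exact N.one_mem
      have h4 : N.comap f = M := le_antisymm (hmax ⟨hN.comap f, h2, h1⟩ h3) h3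
      rw [← Subgroup.map_comap_eq_self_of_surjective hf N, h4]
      rw [Subgroup.map_eq_bot_iff, QuotientGroup.ker_mk']
  obtain ⟨e⟩ := e
  have e1 : Nonempty ((K ⧸ M) ⧸ V1 ≃* alternatingGroup (Fin 7)) :=
    ⟨(QuotientGroup.quotientQuotientEquivQuotient M V hMV).trans e⟩
  have hK1 : commutator (K ⧸ M) = ⊤ := commutator_map f hf hK
  have hyp1 : ¬ IM 4 (K ⧸ M) := fun h => hyp (h.of_quotient M)
  by_cases hcen : V1 ≤ center (K ⧸ M)
  · exact hyp1 (hC (K ⧸ M) hK1 V1 hcen hV1ne e1)
  rcases hV with hV | ⟨hodd, hab⟩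
  · exact hyp1 (hT (K ⧸ M) hK1 V1 (hV.map f) hmin hcen e1)
  · refine hyp1 (hO (K ⧸ M) hK1 V1 ⟨⟨?_⟩⟩ ?_ hmin hcen e1)
    · rintro ⟨_, x, hx, rfl⟩ ⟨_, y, hy, rfl⟩
      have h1 := hab.is_comm.comm ⟨x, hx⟩ ⟨y, hy⟩
      have h2 : x * y = y * x := congrArg Subtype.val h1
      exact Subtype.ext (by
        show f x * f y = f y * f x
        rw [← map_mul, h2, map_mul])
    · exact Odd.of_dvd_nat hodd (Subgroup.card_map_dvd V f)

/-! ### `A₇` as a normal subgroup -/

/-- a normal subgroup `A₇`: a direct factor or a quotient `S₇` -/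
theorem sup_centralizer {G : Type u} [Group G] [Finite G] (hyp : ¬ IM 4 G) {K : Subgroup G} [K.Normal]
    (e : K ≃* alternatingGroup (Fin 7)) : K ⊓ centralizer (K : Set G) = ⊥ ∧ K ⊔ centralizer (K : Set G) = ⊤ := by
  have hs : IsSimpleGroup K := (MulEquiv.isSimpleGroup_congr e).2 simple_A7
  have hcK : Nat.card K = 2520 := by rw [Nat.card_congr e.toEquiv, card_A7]
  have hinf : K ⊓ centralizer (K : Set G) = ⊥ := by
    have h1 : (centralizer (K : Set G)).subgroupOf K = ⊥ ∨ (centralizer (K : Set G)).subgroupOf K = ⊤ :=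
      hs.eq_bot_or_eq_top_of_normal _ inferInstance
    rcases h1 with h1 | h1
    · rw [subgroupOf_eq_bot, disjoint_iff, inf_comm] at h1
      exact h1
    · exfalso
      rw [subgroupOf_eq_top] at h1
      have h2 : ∀ a b : K, a * b = b * a := fun a b => Subtype.ext (mem_centralizer_iff.1 (h1 b.2) a a.2)
      have h3 : ∀ a b : alternatingGroup (Fin 7), a * b = b * a := by
        intro a b
        apply e.symm.injective
        rw [map_mul, map_mul, h2]
      have h4 := h3 ⟨Equiv.swap 0 1 * Equiv.swap 1 2, by rw [Equiv.Perm.mem_alternatingGroup]; decide⟩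
        ⟨Equiv.swap 0 1 * Equiv.swap 1 3, by rw [Equiv.Perm.mem_alternatingGroup]; decide⟩
      exact absurd (congrArg Subtype.val h4) (by decide)
  refine ⟨hinf, ?_⟩
  set C := centralizer (K : Set G) with hCdef
  let f := QuotientGroup.mk' C
  have hf : Function.Surjective f := QuotientGroup.mk'_surjective C
  let M : Subgroup (G ⧸ C) := K.map f
  have hMn : M.Normal := Subgroup.Normal.map inferInstance f hf
  -- `K ≃ M`
  have hinj : Function.Injective (f.comp K.subtype) := by
    rw [injective_iff_map_eq_one]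
    intro x hx
    have h1 : (x : G) ∈ C := (QuotientGroup.eq_one_iff (x : G)).1 hx
    have h2 : (x : G) ∈ K ⊓ C := ⟨x.2, h1⟩
    rw [hinf, mem_bot] at h2
    exact Subtype.ext h2
  have hrange : (f.comp K.subtype).range = M := by
    rw [MonoidHom.range_comp, Subgroup.range_subtype]
  have eM : K ≃* M := (MonoidHom.ofInjective hinj).trans (MulEquiv.subgroupCongr hrange)
  have hcM : Nat.card M = 2520 := by rw [← Nat.card_congr eM.toEquiv, hcK]
  have hcent : centralizer (M : Set (G ⧸ C)) = ⊥ := by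
    rw [eq_bot_iff]
    intro y hy
    obtain ⟨g, rfl⟩ := hf y
    rw [mem_bot]
    apply (QuotientGroup.eq_one_iff g).2
    rw [hCdef, mem_centralizer_iff]
    intro k hk
    have h1 : f k * f g = f g * f k := mem_centralizer_iff.1 hy (f k) ⟨k, hk, rfl⟩
    have h2 : f (g⁻¹ * k * g * k⁻¹) = 1 := by
      rw [map_mul, map_mul, map_mul, map_inv, map_inv, mul_assoc (f g)⁻¹, h1]
      group
    have h3 : g⁻¹ * k * g * k⁻¹ ∈ C := (QuotientGroup.eq_one_iff _).1 h2
    have h4 : g⁻¹ * k * g * k⁻¹ ∈ K := by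
      refine K.mul_mem ?_ (K.inv_mem hk)
      have := Subgroup.Normal.conj_mem (H := K) inferInstance k hk g⁻¹
      rwa [inv_inv] at this
    have h5 : g⁻¹ * k * g * k⁻¹ ∈ K ⊓ C := ⟨h4, h3⟩
    rw [hinf, mem_bot, mul_inv_eq_one, mul_assoc, inv_mul_eq_iff_eq_mul] at h5
    exact h5
  obtain ⟨L, hL, ⟨e'⟩⟩ := H216.Dih.exists_range M hcent (eM.symm.trans e)
  have hb := Cfsg.Agent.S2119.result 7 (by norm_num) (by norm_num)
  let c : Equiv.Perm (Fin 7) ≃* MulAut ↥(alternatingGroup (Fin 7)) := MulEquiv.ofBijective _ hb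
  have hcL : Nat.card L = Nat.card (G ⧸ C) := (Nat.card_congr e'.toEquiv).symm
  have hcA : Nat.card (MulAut ↥(alternatingGroup (Fin 7))) = 5040 := by
    rw [← Nat.card_congr c.toEquiv, Nat.card_perm, Nat.card_eq_fintype_card, Fintype.card_fin]
    decide
  have hd1 : Nat.card (G ⧸ C) ∣ 5040 := by rw [← hcL, ← hcA]; exact card_subgroup_dvd_card L
  have hd2 : 2520 ∣ Nat.card (G ⧸ C) := by rw [← hcM]; exact card_subgroup_dvd_card M
  have hMt : M = ⊤ := by
    obtain ⟨k, hk⟩ := hd2
    rw [hk] at hd1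
    have h6 : k ∣ 2 := by
      have : 2520 * k ∣ 2520 * 2 := hd1
      exact Nat.dvd_of_mul_dvd_mul_left (by norm_num) this
    rcases (Nat.dvd_prime Nat.prime_two).1 h6 with rfl | rfl
    · exact Subgroup.eq_top_of_card_eq M (by rw [hcM, hk])
    · exfalso
      have hKt : L = ⊤ := eq_top_of_card_eq L (by rw [hcL, hk, hcA])
      have e1 : (G ⧸ C) ≃* Equiv.Perm (Fin 7) :=
        (e'.trans ((MulEquiv.subgroupCongr hKt).trans topEquiv)).trans c.symm
      exact hyp ((im_perm_seven.of_equiv e1).of_quotient C)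
  have h7 : (K.map f).comap f = ⊤ := by
    change M.comap f = ⊤
    rw [hMt, Subgroup.comap_top]
  rwa [Subgroup.comap_map_eq, QuotientGroup.ker_mk'] at h7

theorem im_A7 (hIM : FactIM.{u} 2) {K : Type u} [Group K] [Finite K] (e : K ≃* alternatingGroup (Fin 7)) :
    IM 2 K := by
  by_contra hcon
  have : Fact (Nat.Prime 2) := ⟨Nat.prime_two⟩
  obtain ⟨P⟩ : Nonempty (Sylow 2 K) := inferInstance
  have hs : IsSimpleGroup K := (MulEquiv.isSimpleGroup_congr e).2 simple_A7
  have hc : Nat.card K = 2520 := by rw [Nat.card_congr e.toEquiv, card_A7]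
  have h1 := (hIM K hcon P).1
  have h2 : Nat.card (P : Subgroup K) = 8 := by
    rw [P.card_eq_multiplicity, hc]
    have : (2520 : ℕ).factorization 2 = 3 := by
      rw [show (2520 : ℕ) = 2 ^ 3 * 315 by norm_num, Nat.factorization_mul (by norm_num) (by norm_num),
        Nat.Prime.factorization_pow Nat.prime_two]
      simp [Nat.factorization_eq_zero_of_not_dvd (show ¬ 2 ∣ 315 by decide)]
    rw [this]
    norm_num
  rcases hs.eq_bot_or_eq_top_of_normal _ h1 with h3 | h3
  · rw [h3, Subgroup.card_bot] at h2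
    omega
  · rw [h3, Subgroup.card_top, hc] at h2
    omega

/-- **PS-14**, with PS-11, PS-12, PS-13 as hypotheses. -/
theorem exc_lift_of (hC : SevenCentral.{u}) (hO : SevenOdd.{u}) (hT : SevenTwo.{u}) (hIM : FactIM.{u} 2)
    {G : Type u} [Group G] [Finite G] (hyp : Hyp 2 G) {V : Subgroup G} [V.Normal]
    (hV : IsPGroup 2 V ∨ (Odd (Nat.card V) ∧ IsMulCommutative V)) (h : Exc (G ⧸ V)) : Exc G := by
  have hyp4 : ¬ IM 4 G := by
    have h1 : ¬ IM (2 ^ 2) G := hyp
    norm_num at h1
    exact h1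
  obtain ⟨A, L, hA, hL, -, -, ⟨eA⟩, -⟩ := h
  let f := QuotientGroup.mk' V
  have hf : Function.Surjective f := QuotientGroup.mk'_surjective V
  have hVA : V ≤ A.comap f := by
    intro x hx
    rw [Subgroup.mem_comap]
    have : f x = 1 := (QuotientGroup.eq_one_iff x).2 hx
    rw [this]
    exact A.one_mem
  -- a minimal normal supplement
  obtain ⟨K, ⟨hK, hKV⟩, hmin⟩ := (Set.toFinite {K : Subgroup G | K.Normal ∧ K.map f = A}).exists_minimal
    ⟨A.comap f, hA.comap f, Subgroup.map_comap_eq_self_of_surjective hf A⟩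
  -- it is perfect
  have hAc : commutator A = ⊤ := by
    have hs : IsSimpleGroup A := (MulEquiv.isSimpleGroup_congr eA).2 simple_A7
    rcases hs.eq_bot_or_eq_top_of_normal (commutator A) inferInstance with h1 | h1
    · exfalso
      have h2 : ∀ a b : A, a * b = b * a := fun a b => by
        have h3 : ⁅a, b⁆ ∈ commutator A := Subgroup.commutator_mem_commutator (mem_top a) (mem_top b)
        rw [h1, mem_bot] at h3
        exact (commutatorElement_eq_one_iff_mul_comm.1 h3)
      have h3 : ∀ a b : alternatingGroup (Fin 7), a * b = b * a := by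
        intro a b
        apply eA.symm.injective
        rw [map_mul, map_mul, h2]
      have h4 := h3 ⟨Equiv.swap 0 1 * Equiv.swap 1 2, by rw [Equiv.Perm.mem_alternatingGroup]; decide⟩
        ⟨Equiv.swap 0 1 * Equiv.swap 1 3, by rw [Equiv.Perm.mem_alternatingGroup]; decide⟩
      exact absurd (congrArg Subtype.val h4) (by decide)
    · exact h1
  have hKc : ⁅K, K⁆ = K := by
    have h1 : (⁅K, K⁆ : Subgroup G).map f = A := by
      rw [Subgroup.map_commutator, hKV]
      have h2 := congrArg (fun H : Subgroup A => H.map A.subtype) hAc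
      simp only [_root_.commutator_def, Subgroup.map_commutator] at h2
      rwa [← MonoidHom.range_eq_map, Subgroup.range_subtype] at h2
    exact le_antisymm (Subgroup.commutator_le_self K)
      (hmin ⟨Subgroup.commutator_normal K K, h1⟩ (Subgroup.commutator_le_self K))
  have hKtop : commutator K = ⊤ := by
    have h1 : (commutator K).map K.subtype = (⊤ : Subgroup K).map K.subtype := by
      rw [_root_.commutator_def, Subgroup.map_commutator, ← MonoidHom.range_eq_map, Subgroup.range_subtype, hKc]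
    exact Subgroup.map_injective K.subtype_injective h1
  -- the quotient
  let φ : K →* A := (f.comp K.subtype).codRestrict A fun x => by
    rw [← hKV]
    exact ⟨x, x.2, rfl⟩
  have hφ : Function.Surjective φ := by
    rintro ⟨y, hy⟩
    rw [← hKV] at hy
    obtain ⟨x, hx, rfl⟩ := hy
    exact ⟨⟨x, hx⟩, Subtype.ext rfl⟩
  have hker : φ.ker = V.subgroupOf K := by
    ext x
    rw [MonoidHom.mem_ker, mem_subgroupOf]
    constructor
    · intro h1
      exact (QuotientGroup.eq_one_iff (x : G)).1 (congrArg Subtype.val h1)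
    · intro h1
      exact Subtype.ext ((QuotientGroup.eq_one_iff (x : G)).2 h1)
  have e1 : K ⧸ (V.subgroupOf K) ≃* alternatingGroup (Fin 7) :=
    (QuotientGroup.quotientMulEquivOfEq hker.symm).trans
      ((QuotientGroup.quotientKerEquivOfSurjective φ hφ).trans eA)
  have hV' : IsPGroup 2 (V.subgroupOf K) ∨ (Odd (Nat.card (V.subgroupOf K)) ∧ IsMulCommutative (V.subgroupOf K)) := by
    rcases hV with hV | ⟨hodd, hab⟩
    · left
      exact hV.comap_subtype
    · right
      refine ⟨Odd.of_dvd_nat hodd ?_, ⟨⟨?_⟩⟩⟩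
      · have h1 : Nat.card ((V.subgroupOf K).map K.subtype) = Nat.card (V.subgroupOf K) :=
          Nat.card_congr ((V.subgroupOf K).equivMapOfInjective _ K.subtype_injective).symm.toEquiv
        rw [← h1, Subgroup.subgroupOf_map_subtype]
        exact Subgroup.card_dvd_of_le inf_le_left
      · rintro ⟨x, hx⟩ ⟨y, hy⟩
        have h1 := hab.is_comm.comm ⟨(x : G), hx⟩ ⟨(y : G), hy⟩
        have h2 : (x : G) * y = y * x := congrArg Subtype.val h1
        exact Subtype.ext (Subtype.ext h2)
  have hbot := inf_eq_bot hC hO hT hKtop (fun h1 => hyp4 (h1.of_normal K)) hV' ⟨e1⟩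
  have eK : K ≃* alternatingGroup (Fin 7) :=
    (QuotientGroup.quotientBot.symm.trans (QuotientGroup.quotientMulEquivOfEq hbot.symm)).trans e1
  obtain ⟨h1, h2⟩ := sup_centralizer hyp4 eK
  have hIML : ¬ IM 2 (centralizer (K : Set G)) := by
    intro h3
    have h4 := im_of_two K (centralizer (K : Set G)) (fun a ha b hb => mem_centralizer_iff.1 hb a ha) h1
      (im_A7 hIM eK) h3
    exact hyp4 h4
  obtain ⟨Q⟩ : Nonempty (Sylow 2 (centralizer (K : Set G))) := inferInstance
  exact ⟨K, centralizer (K : Set G), hK, inferInstance, h1, h2, ⟨eK⟩, Q, hIM _ hIML Q⟩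

end Cfsg.Agent.H904.PSq
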